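import Groth.Agent.HilbArt.Koszul

/-!
Euler characteristics of twists over an Artinian ring are polynomial in the twist.
-/

set_option autoImplicit false
set_option linter.style.haveILetI false
set_option backward.isDefEq.respectTransparency false
set_option backward.isDefEq.respectTransparency.types false

universe u

open CategoryTheory CategoryTheory.Limits AlgebraicGeometry TopologicalSpace Opposite
open Groth.Agent.QC (res resO res_res res_self res_smul app_res)
open Groth.Agent.Horrocks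

noncomputable section

namespace Groth.Agent.HilbArt

variable (A : Type u) [CommRing A] (r : ℕ)

local notation "Oa" => Twist.twistProjSpace r A

theorem twist_zero : Nonempty (Oa 0 ≅ Coh.structureModule (CohB1.ProjSpace r A)) :=
  GrT.nonempty_twist_zero_iso (𝒜 := CohB1.polyGrading r A)

theorem twist_twist (a b c : ℤ) (h : a + b = c) : Nonempty (CohB1.tensorMod (Oa a) (Oa b) ≅ Oa c) :=
  TwistPairing.nonempty_twist_twist (R := A) r a b c h

/-- The coordinates. -/
theorem exists_coords : ∃ l : List (Oa (-1) ⟶ Coh.structureModule (CohB1.ProjSpace r A)),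
    l.length = r + 1 ∧ ∀ x, ∃ τ ∈ l, UnitAt τ x := by
  have h1 : (⊤ : (CohB1.ProjSpace r A).Opens) ≤ Proj.basicOpen (CohB1.polyGrading r A) (1 : MvPolynomial (Fin (r + 1)) A) :=
    (Proj.basicOpen_one _).ge
  obtain ⟨e₁⟩ := twist_twist A r (-1) 1 0 (by norm_num)
  obtain ⟨e₀⟩ := twist_zero A r
  let s : ∀ i : Fin (r + 1), Coh.structureModule (CohB1.ProjSpace r A) ⟶ Oa 1 := fun i =>
    TMul.homOf (GrT.twistGen (CohB1.polyGrading r A) (MvPolynomial.isHomogeneous_X A i)
      (SetLike.GradedOne.one_mem (A := CohB1.polyGrading r A)) (N := 1) (by norm_num) h1)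
  choose τ hτ using fun i => NegTwist.exists_locus_map (CohFinite.isInvertible_twist r A 1) (e₁ ≪≫ e₀) (s i)
  refine ⟨List.ofFn τ, List.length_ofFn, fun x => ?_⟩
  obtain ⟨i, hi⟩ := CohFinite.cov_X r A x
  have hxi : x ∈ Proj.basicOpen (CohB1.polyGrading r A) (MvPolynomial.X i.down) :=
    (ProjectiveSpectrum.mem_basicOpen _ _ x).mpr hi
  refine ⟨τ i.down, List.mem_ofFn.mpr ⟨_, rfl⟩, fun D g hg hx => (hτ i.down D g hg x hx).1 ?_⟩
  refine (TMul.mem_genLocus_iff _).mpr ⟨_, hxi, fun V hV => ?_⟩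
  have hb := GrT.twistGen_bijective (CohB1.polyGrading r A) (MvPolynomial.isHomogeneous_X A i.down)
    (SetLike.GradedOne.one_mem (A := CohB1.polyGrading r A)) (N := 1) (by norm_num)
    (U := Proj.basicOpen (CohB1.polyGrading r A) (MvPolynomial.X i.down)) le_rfl (le_top.trans h1) V hV
  have he : res (Oa 1) hV (TMul.val (s i.down) _) = res (Oa 1) hV (GrT.twistGen (CohB1.polyGrading r A)
      (MvPolynomial.isHomogeneous_X A i.down) (SetLike.GradedOne.one_mem (A := CohB1.polyGrading r A)) (N := 1)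
      (by norm_num) (le_top.trans h1)) := by
    rw [TMul.val_homOf]
    rfl
  rw [he]
  exact hb

theorem tP_congr {X : Scheme.{u}} (P : X.Modules) (m : ℕ) : ∀ {M M' : X.Modules} (_ : M ≅ M'),
    Nonempty (tP P m M ≅ tP P m M') := by
  induction m with
  | zero => intro M M' e; simp only [tP]; exact ⟨e⟩
  | succ m ih => intro M M' e; simp only [tP]; exact ih (PicGrp.tensorModIso e (Iso.refl P))

theorem tensor_twist (M : (CohB1.ProjSpace r A).Modules) (a : ℤ) :
    Nonempty (CohB1.tensorMod (CohB1.tensorMod M (Oa a)) (Oa (-1)) ≅ CohB1.tensorMod M (Oa (a - 1))) := by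
  obtain ⟨e⟩ := twist_twist A r a (-1) (a - 1) (by ring)
  exact ⟨TMul.assocIso M (Oa a) (Oa (-1)) ≪≫ PicGrp.tensorModIso (Iso.refl M) e⟩

theorem tP_of_step {X : Scheme.{u}} (P : X.Modules) (W : X.Modules → ℤ → X.Modules)
    (hW : ∀ M a, Nonempty (CohB1.tensorMod (W M a) P ≅ W M (a - 1))) (m : ℕ) :
    ∀ (M : X.Modules) (a b : ℤ), b = a - m → Nonempty (tP P m (W M a) ≅ W M b) := by
  induction m with
  | zero =>
    intro M a b hb
    simp only [Nat.cast_zero, sub_zero] at hb
    subst hb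
    simp only [tP]
    exact ⟨Iso.refl _⟩
  | succ m ih =>
    intro M a b hb
    simp only [tP]
    obtain ⟨d⟩ := hW M a
    obtain ⟨g⟩ := tP_congr P m d
    obtain ⟨f⟩ := ih M (a - 1) b (by rw [hb]; push_cast; ring)
    exact ⟨g ≪≫ f⟩

theorem tP_twist (m : ℕ) (M : (CohB1.ProjSpace r A).Modules) (a : ℤ) :
    Nonempty (tP (Oa (-1)) m (CohB1.tensorMod M (Oa a)) ≅ CohB1.tensorMod M (Oa (a - m))) :=
  tP_of_step (Oa (-1)) (fun M a => CohB1.tensorMod M (Oa a)) (fun M a => tensor_twist A r M a) m M a (a - m) rfl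

/-- A function on `ℤ` killed by an iterated difference is polynomial. -/
theorem exists_poly : ∀ (m : ℕ) (H : ℤ → ℚ), (fun f : ℤ → ℚ => fun n => f n - f (n - 1))^[m] H = 0 →
    ∃ P : Polynomial ℚ, ∀ n : ℤ, H n = P.eval (n : ℚ)
  | 0, H, h => ⟨0, fun n => by simpa using congr_fun h n⟩
  | m + 1, H, h => by
    rw [Function.iterate_succ_apply] at h
    obtain ⟨Q, hQ⟩ := exists_poly m _ h
    by_cases hQ0 : Q = 0
    · refine ⟨Polynomial.C (H 0), fun n => ?_⟩
      have hc : ∀ k : ℤ, H k = H (k - 1) := fun k => by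
        have := hQ k
        rw [hQ0, Polynomial.eval_zero, sub_eq_zero] at this
        exact this
      rw [Polynomial.eval_C]
      induction n using Int.induction_on with
      | zero => rfl
      | succ k ih => rw [hc, add_sub_cancel_right, ih]
      | pred k ih => rw [← ih, hc (-(k : ℤ))]
    · obtain ⟨P, -, hP⟩ := Groth.Agent.S14405.result H Q.natDegree Q hQ0 rfl hQ
      exact ⟨P, hP⟩

/-- The Euler characteristic of `G(n)` is polynomial in `n`. -/
theorem exists_poly_projSpace [IsArtinianRing A] (G : (CohB1.ProjSpace r A).Modules) (hG : Coh.IsCoh G) :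
    ∃ P : Polynomial ℚ, ∀ n : ℤ, (chi A r (CohB1.tensorMod G (Oa n)) : ℚ) = P.eval (n : ℚ) := by
  haveI := ProjMor.isProper_toSpec r A
  haveI : IsProper (CohB1.ProjSpace r A ↘ Spec (CommRingCat.of A)) := ‹_›
  haveI := CohFinite.isNoetherian_projSpace r A
  have hv : Vanish (CohB1.ProjSpace r A) r := fun M hM i hi =>
    haveI : Coh.IsQCoh M := hM.1
    Groth.Agent.S0022.result r A M i hi
  obtain ⟨l, hl, hu⟩ := exists_coords A r
  let H : ℤ → ℚ := fun n => (chi A r (CohB1.tensorMod G (Oa n)) : ℚ)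
  let D : (ℤ → ℚ) → ℤ → ℚ := fun f => fun n => f n - f (n - 1)
  refine exists_poly (r + 1) H (funext fun n => ?_)
  let h : ℕ → ℤ := fun b => chi A r (tP (Oa (-1)) b (CohB1.tensorMod G (Oa n)))
  have key : ∀ m a : ℕ, ((fd^[m] h a : ℤ) : ℚ) = D^[m] H (n - a) := by
    intro m
    induction m with
    | zero =>
      intro a
      obtain ⟨e⟩ := tP_twist A r a G n
      show ((h a : ℤ) : ℚ) = H (n - a)
      simp only [h, H, chi_congr A r e]
    | succ m ih =>
      intro a
      rw [Function.iterate_succ_apply', Function.iterate_succ_apply']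
      simp only [fd, D, Int.cast_sub, ih]
      rw [show n - ((a + 1 : ℕ) : ℤ) = n - (a : ℤ) - 1 by push_cast; ring]
  have hG' : Coh.IsCoh (CohB1.tensorMod G (Oa n)) :=
    CohFinite.isCoh_tensor hG (CohFinite.isInvertible_twist r A n)
  have hz : fd^[l.length] h 0 = 0 :=
    fd_zero A r hv (CohFinite.isInvertible_twist r A (-1)) (F := CohB1.tensorMod G (Oa n)) hG' l hu
  have hz' : fd^[r + 1] h 0 = 0 := hl ▸ hz
  have hk : ((fd^[r + 1] h 0 : ℤ) : ℚ) = D^[r + 1] H (n - ((0 : ℕ) : ℤ)) := key (r + 1) 0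
  rw [hz', Int.cast_zero, Nat.cast_zero, sub_zero] at hk
  exact hk.symm

end Groth.Agent.HilbArt
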