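import Groth.Agent.Horrocks.Koszul
import Groth.Agent.Horrocks.Basic
import Groth.Agent.PnHodge.Euler
import Groth.Agent.Devissage.Power
import Groth.Agent.K0Coh.Basic
import Groth.Agent.RPushQC.SectionsExact
import Groth.Agent.S2420
import Groth.Agent.S0022
import Groth.Agent.S14405

/-!
Euler characteristics over an Artinian ring: the Koszul relation among the twists.
-/

set_option autoImplicit false
set_option linter.style.haveILetI false
set_option backward.isDefEq.respectTransparency false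
set_option backward.isDefEq.respectTransparency.types false

universe u

open CategoryTheory CategoryTheory.Limits AlgebraicGeometry TopologicalSpace Opposite
open Groth.Agent.QC (res resO res_res res_self res_smul app_res)
open Groth.Agent.Horrocks

noncomputable section

namespace Groth.Agent.HilbArt

attribute [local instance] Abelian.hasFiniteBiproducts

variable (A : Type u) [CommRing A] {X : Scheme.{u}} [X.Over (Spec (CommRingCat.of A))] (N : ℕ)

/-- The alternating sum of the lengths of the cohomology in degrees at most `N`. -/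
def chi (M : X.Modules) : ℤ :=
  (Finset.range (N + 1)).sum fun i => (-1 : ℤ) ^ i * ((Module.length A (Coh.HH X M i)).toNat : ℤ)

theorem chi_congr {M M' : X.Modules} (e : M ≅ M') : chi A N M = chi A N M' :=
  Finset.sum_congr rfl fun i _ => by rw [(CohFinite.hhEquiv A e i).length_eq]

theorem chi_isZero {M : X.Modules} (h : IsZero M) : chi A N M = 0 :=
  Finset.sum_eq_zero fun i _ => by
    haveI := CohFinite.subsingleton_of_split M (fun e : Fin 0 => e.elim0) (fun e => e.elim0)
      (fun e => e.elim0) (h.eq_of_src _ _) i fun e => e.elim0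
    rw [Module.length_eq_zero]
    simp

/-- A coherent module with no cohomology above degree `N`. -/
def Vanish (X : Scheme.{u}) (N : ℕ) : Prop :=
  ∀ M : X.Modules, Coh.IsCoh M → ∀ i : ℕ, N < i → Subsingleton (Coh.HH X M i)

variable [IsArtinianRing A] [IsProper (X ↘ Spec (CommRingCat.of A))] (hv : Vanish X N)

include hv in
theorem chi_add {S : ShortComplex X.Modules} (hS : S.ShortExact) (h₁ : Coh.IsCoh S.X₁) (h₂ : Coh.IsCoh S.X₂)
    (h₃ : Coh.IsCoh S.X₃) : chi A N S.X₂ = chi A N S.X₁ + chi A N S.X₃ :=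
  Groth.Agent.S2420.result A X S hS h₁ h₂ h₃ N fun i hi => ⟨hv _ h₁ i hi, hv _ h₂ i hi, hv _ h₃ i hi⟩

theorem chi_eq (M : X.Modules) : chi A N M =
    (Finset.range (N + 1)).sum fun i => (-1 : ℤ) ^ i * ((Module.length A (Coh.HH X M i)).toNat : ℤ) := rfl

attribute [irreducible] chi

variable {P : X.Modules} (hP : PicF.IsInvertible P)

omit [IsArtinianRing A] [IsProper (X ↘ Spec (CommRingCat.of A))] in
include hP in
theorem isCoh_tP : ∀ (a : ℕ) (M : X.Modules), Coh.IsCoh M → Coh.IsCoh (tP P a M)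
  | 0, _, h => h
  | a + 1, M, h => isCoh_tP a _ (CohFinite.isCoh_tensor h hP)

include hv hP in
theorem chi_tP_add (a : ℕ) : ∀ {S : ShortComplex X.Modules}, S.ShortExact → Coh.IsCoh S.X₁ →
    Coh.IsCoh S.X₂ → Coh.IsCoh S.X₃ →
    chi A N (tP P a S.X₂) = chi A N (tP P a S.X₁) + chi A N (tP P a S.X₃) := by
  induction a with
  | zero =>
    intro S hS h₁ h₂ h₃
    simp only [tP]
    exact chi_add A N hv hS h₁ h₂ h₃
  | succ a ih =>
    intro S hS h₁ h₂ h₃
    simp only [tP]
    have hS' := CohFinite.shortExact_tmap hP hS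
    have e := ih (S := ShortComplex.mk (CohFinite.tmap S.f P) (CohFinite.tmap S.g P)
      (by rw [← CohFinite.tmap_comp, S.zero, CohFinite.tmap_zero])) hS' (CohFinite.isCoh_tensor h₁ hP)
      (CohFinite.isCoh_tensor h₂ hP) (CohFinite.isCoh_tensor h₃ hP)
    exact e

theorem isCoh_biprod {X : Scheme.{u}} {M M' : X.Modules} (h : Coh.IsCoh M) (h' : Coh.IsCoh M') :
    Coh.IsCoh (M ⊞ M') := by
  refine QC.isCoh_iff_finite_sections.2 ⟨RPushQC.isQCoh_biprod h.1 h'.1, fun U => ?_⟩
  have := (QC.isCoh_iff_finite_sections.1 h).2 U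
  have := (QC.isCoh_iff_finite_sections.1 h').2 U
  let L : (Γ(M, U.1) × Γ(M', U.1)) →ₗ[Γ(X, U.1)] Γ(M ⊞ M', U.1) :=
    (QC.appₗ (biprod.inl : M ⟶ M ⊞ M') U.1).coprod (QC.appₗ biprod.inr U.1)
  refine Module.Finite.of_surjective L fun t =>
    ⟨((biprod.fst : M ⊞ M' ⟶ M).app U.1 t, (biprod.snd : M ⊞ M' ⟶ M').app U.1 t), ?_⟩
  exact congrArg (fun f : M ⊞ M' ⟶ M ⊞ M' => f.app U.1 t) (biprod.total : _ = 𝟙 (M ⊞ M'))

include hv hP in
theorem chi_tP_biprod (a : ℕ) {M M' : X.Modules} (h : Coh.IsCoh M) (h' : Coh.IsCoh M') :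
    chi A N (tP P a (M ⊞ M')) = chi A N (tP P a M) + chi A N (tP P a M') :=
  chi_tP_add A N hv hP a (S := ShortComplex.mk (biprod.inl : M ⟶ M ⊞ M') (biprod.snd : M ⊞ M' ⟶ M') biprod.inl_snd)
    (ShortComplex.Splitting.ofHasBinaryBiproduct M M').shortExact h (isCoh_biprod h h') h'

variable {F : X.Modules}

theorem isCoh_of_isZero {X : Scheme.{u}} {M : X.Modules} (h : IsZero M) : Coh.IsCoh M :=
  K0Coh.isCoh_of_iso
    (IsZero.iso (by rw [IsZero.iff_id_eq_zero]; exact biproduct.hom_ext _ _ fun e => e.elim0) h)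
    (Devissage.isCoh_biproduct (fun e : Fin 0 => (e.elim0 : X.Modules)) fun e => e.elim0)

omit [IsArtinianRing A] [IsProper (X ↘ Spec (CommRingCat.of A))] in
include hP in
theorem isCoh_kos (hF : Coh.IsCoh F) : ∀ (l : List (P ⟶ Coh.structureModule X)) (p : ℕ),
    Coh.IsCoh ((kos F l).obj p)
  | [], _ => isCoh_of_isZero initialIsInitial.isZero
  | _ :: l, 0 => isCoh_biprod (isCoh_kos hF l 0) (CohFinite.isCoh_tensor hF hP)
  | _ :: l, p + 1 => isCoh_biprod (isCoh_kos hF l (p + 1)) (CohFinite.isCoh_tensor (isCoh_kos hF l p) hP)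

/-- The alternating sum along the Koszul complex. -/
def kosSum (l : List (P ⟶ Coh.structureModule X)) (F : X.Modules) (a : ℕ) : ℤ :=
  (Finset.range l.length).sum fun p => (-1 : ℤ) ^ p * chi A N (tP P a ((kos F l).obj p))

/-- `h(a) - h(a+1)`. -/
def fd (h : ℕ → ℤ) : ℕ → ℤ := fun a => h a - h (a + 1)

include hv hP in
theorem sub_kosSum (hF : Coh.IsCoh F) : ∀ (l : List (P ⟶ Coh.structureModule X)) (a : ℕ),
    chi A N (tP P a F) - kosSum A N l F a = fd^[l.length] (fun b => chi A N (tP P b F)) a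
  | [], a => by simp [kosSum]
  | σ :: l, a => by
    rw [List.length_cons, Function.iterate_succ_apply', fd, ← sub_kosSum hF l a, ← sub_kosSum hF l (a + 1)]
    let c : ℕ → ℕ → ℤ := fun b p => chi A N (tP P b ((kos F l).obj p))
    have h0 : chi A N (tP P a ((kos F (σ :: l)).obj 0)) = c a 0 + chi A N (tP P (a + 1) F) :=
      chi_tP_biprod A N hv hP a (isCoh_kos hP hF l 0) (CohFinite.isCoh_tensor hF hP)
    have hs : ∀ p, chi A N (tP P a ((kos F (σ :: l)).obj (p + 1))) = c a (p + 1) + c (a + 1) p := fun p =>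
      chi_tP_biprod A N hv hP a (isCoh_kos hP hF l (p + 1))
        (CohFinite.isCoh_tensor (isCoh_kos hP hF l p) hP)
    have hz : c a l.length = 0 := chi_isZero A N (isZero_tP a _ (isZero_kos l l.length le_rfl))
    have key : kosSum A N (σ :: l) F a =
        kosSum A N l F a + chi A N (tP P (a + 1) F) - kosSum A N l F (a + 1) := by
      have e := Finset.sum_range_succ (fun p => (-1 : ℤ) ^ p * c a p) l.length
      rw [hz, mul_zero, add_zero, Finset.sum_range_succ'] at e
      simp only [kosSum, List.length_cons]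
      rw [Finset.sum_range_succ', h0, ← e]
      simp only [hs, mul_add, Finset.sum_add_distrib, pow_succ, pow_zero, one_mul, mul_neg, mul_one,
        neg_mul, Finset.sum_neg_distrib, c]
      ring
    rw [key]
    ring

include hv hP in
/-- Euler characteristics along an exact Koszul complex. -/
theorem kosSum_zero [IsLocallyNoetherian X] (hF : Coh.IsCoh F) (l : List (P ⟶ Coh.structureModule X))
    (hl : ∀ x : X, ∃ τ ∈ l, UnitAt τ x) : kosSum A N l F 0 = chi A N F := by
  let C := kos F l
  have hc : ∀ p, Coh.IsCoh (C.obj p) := isCoh_kos hP hF l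
  have hk : ∀ p, Coh.IsCoh (kernel (C.d p)) := fun p => QC.isCoh_kernel (hc _) (hc _).1 _
  have hke : Coh.IsCoh (kernel C.ε) := QC.isCoh_kernel (hc _) hF.1 _
  have hex : ∀ x, C.Ex x := fun x => kos_ex hP x l (hl x)
  haveI : Epi C.ε := epi_of_stalk _ fun x => (hex x).1
  haveI := epi_lift (C.d 0) C.ε C.dε fun x v hv => (hex x).2.1 v hv
  have e0 : chi A N (C.obj 0) = chi A N (kernel C.ε) + chi A N F :=
    chi_add A N hv (S := ShortComplex.mk (kernel.ι C.ε) C.ε (kernel.condition C.ε))
      { exact := ShortComplex.exact_of_f_is_kernel _ (kernelIsKernel C.ε) } hke (hc 0) hF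
  have e1 : chi A N (C.obj 1) = chi A N (kernel (C.d 0)) + chi A N (kernel C.ε) :=
    chi_add A N hv (shortExact_lift (C.d 0) C.ε C.dε) (hk 0) (hc 1) hke
  have e2 : ∀ p, chi A N (C.obj (p + 2)) = chi A N (kernel (C.d (p + 1))) + chi A N (kernel (C.d p)) := fun p => by
    haveI := epi_lift (C.d (p + 1)) (C.d p) (C.dd p) fun x v hv => (hex x).2.2 p v hv
    exact chi_add A N hv (shortExact_lift (C.d (p + 1)) (C.d p) (C.dd p)) (hk (p + 1)) (hc (p + 2)) (hk p)
  have tel : ∀ m, (Finset.range (m + 2)).sum (fun p => (-1 : ℤ) ^ p * chi A N (C.obj p)) =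
      chi A N F - (-1 : ℤ) ^ m * chi A N (kernel (C.d m)) := by
    intro m
    induction m with
    | zero => rw [Finset.sum_range_succ, Finset.sum_range_one, e0, e1]; ring
    | succ m ih => rw [Finset.sum_range_succ, ih, e2]; ring
  have hkz : chi A N (kernel (C.d l.length)) = 0 :=
    chi_isZero A N (IsZero.of_mono (kernel.ι (C.d l.length)) (isZero_kos l _ (by omega)))
  have h := tel l.length
  rw [hkz, mul_zero, sub_zero] at h
  rw [← h, Finset.sum_range_succ, Finset.sum_range_succ, chi_isZero A N (isZero_kos l l.length le_rfl),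
    chi_isZero A N (isZero_kos l (l.length + 1) (by omega))]
  simp [kosSum, tP, C]

include hv hP in
/-- The Koszul relation. -/
theorem fd_zero [IsLocallyNoetherian X] (hF : Coh.IsCoh F) (l : List (P ⟶ Coh.structureModule X))
    (hl : ∀ x : X, ∃ τ ∈ l, UnitAt τ x) : fd^[l.length] (fun b => chi A N (tP P b F)) 0 = 0 := by
  rw [← sub_kosSum A N hv hP hF l 0, kosSum_zero A N hv hP hF l hl]
  exact sub_self _

end Groth.Agent.HilbArt
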