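import Groth.Agent.HilbArt.Koszul
import Groth.Agent.GrT.Ample
import Groth.Agent.GrT.FT
import Groth.Agent.GrT.TwistTensor
import Groth.Agent.W7Proj.Proj
import Groth.Agent.ProjMor.Base
import Groth.Agent.CohFinite.Ample
import Groth.Agent.S2434
import Groth.Prelude.Def_ega3

/-!
Euler characteristics of `M(n)~` on `Proj` for large `n`.
-/

set_option autoImplicit false
set_option linter.style.haveILetI false
set_option backward.isDefEq.respectTransparency false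
set_option backward.isDefEq.respectTransparency.types false

universe u

open CategoryTheory CategoryTheory.Limits AlgebraicGeometry TopologicalSpace Opposite

noncomputable section

namespace Groth.Agent.HilbArt

/-- The scalars act on `H⁰` through global functions. -/
theorem equiv₀_smul {A : Type u} [CommRing A] {X : Scheme.{u}} [X.Over (Spec (CommRingCat.of A))]
    (T : X.Modules) (c : A) (z : Coh.HH X T 0) :
    (show Γ(T, ⊤) from Sheaf.H.equiv₀ (Coh.toAb T) (isTerminalTop (α := Opens X)) (c • z)) =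
      (show Γ(X, ⊤) from Coh.toGlobal (X ↘ Spec (CommRingCat.of A)) c) •
        (show Γ(T, ⊤) from Sheaf.H.equiv₀ (Coh.toAb T) (isTerminalTop (α := Opens X)) z) := by
  change Sheaf.H.equiv₀ (Coh.toAb T) (isTerminalTop (α := Opens X))
    (Sheaf.H.map (Coh.smulAb T (Coh.toGlobal _ c)) 0 z) = _
  rw [← Sheaf.H.equiv₀_naturality, Coh.smulAb_app]
  congr 1
  change (X.ringCatSheaf.obj.map (𝟙 (op (⊤ : X.Opens)))).hom _ = _
  rw [CategoryTheory.Functor.map_id]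
  rfl

variable {A S : Type u} [CommRing A] [CommRing S] [Algebra A S] (𝒜 : ℕ → Submodule A S) [GradedAlgebra 𝒜]
  {M : Type u} [AddCommGroup M] [Module A M] [Module S M] [IsScalarTower A S M]
  (ℳ : ℕ → Submodule A M) [DirectSum.Decomposition ℳ] [SetLike.GradedSMul 𝒜 ℳ]

omit [AddCommGroup M] [Module A M] [Module S M] [IsScalarTower A S M] in
theorem exists_gen_notMem (h0 : ∀ s ∈ 𝒜 0, s ∈ Set.range (algebraMap A S)) {ι : Type*} (g : ι → S)
    (hg1 : ∀ i, g i ∈ 𝒜 1) (hgen : Algebra.adjoin A (Set.range g) = ⊤) (x : ProjectiveSpectrum 𝒜) :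
    ∃ i, g i ∉ x.asHomogeneousIdeal := by
  by_contra hcon
  push Not at hcon
  let J := x.asHomogeneousIdeal.toIdeal
  have key : ∀ s : S, ∃ a : A, s - algebraMap A S a ∈ J := by
    intro s
    have hs : s ∈ Algebra.adjoin A (Set.range g) := hgen ▸ Algebra.mem_top
    induction hs using Algebra.adjoin_induction with
    | mem y hy =>
      obtain ⟨i, rfl⟩ := hy
      exact ⟨0, by rw [map_zero, sub_zero]; exact hcon i⟩
    | algebraMap a => exact ⟨a, by rw [sub_self]; exact J.zero_mem⟩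
    | add y z _ _ hy hz =>
      obtain ⟨a, ha⟩ := hy
      obtain ⟨b, hb⟩ := hz
      exact ⟨a + b, by rw [map_add, add_sub_add_comm]; exact J.add_mem ha hb⟩
    | mul y z _ _ hy hz =>
      obtain ⟨a, ha⟩ := hy
      obtain ⟨b, hb⟩ := hz
      refine ⟨a * b, ?_⟩
      rw [map_mul, show y * z - algebraMap A S a * algebraMap A S b =
        (y - algebraMap A S a) * z + algebraMap A S a * (z - algebraMap A S b) by ring]
      exact J.add_mem (J.mul_mem_right _ ha) (J.mul_mem_left _ hb)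
  obtain ⟨d, f, hd, hf, hfx⟩ := GrT.exists_pos_homog 𝒜 x
  obtain ⟨a, ha⟩ := key f
  refine hfx ?_
  have h1 := x.asHomogeneousIdeal.isHomogeneous d ha
  rw [DirectSum.decompose_sub, DirectSum.sub_apply, AddSubgroupClass.coe_sub,
    DirectSum.decompose_of_mem_same 𝒜 hf,
    DirectSum.decompose_of_mem_ne 𝒜 (SetLike.algebraMap_mem_graded 𝒜 a) (by omega), sub_zero] at h1
  exact h1

omit [AddCommGroup M] [Module A M] [Module S M] [IsScalarTower A S M] in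
theorem isProper_over (h0 : ∀ s ∈ 𝒜 0, s ∈ Set.range (algebraMap A S)) [IsNoetherianRing S] :
    IsProper (Proj 𝒜 ↘ Spec (CommRingCat.of A)) := by
  haveI := W7Proj.isProper_toSpecZero 𝒜
  have hs : Function.Surjective (algebraMap A (𝒜 0)) := fun s => by
    obtain ⟨a, ha⟩ := h0 s.1 s.2
    exact ⟨a, Subtype.ext ha⟩
  haveI : IsClosedImmersion (Spec.map (CommRingCat.ofHom (algebraMap A (𝒜 0)))) :=
    IsClosedImmersion.spec_of_surjective _ hs
  show IsProper (Proj.toSpecZero 𝒜 ≫ _)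
  infer_instance

omit [IsScalarTower A S M] [DirectSum.Decomposition ℳ] in
theorem globalOf_add {n : ℕ} (m m' : ℳ n) :
    (show Γ(GrTilde.tilde 𝒜 ℳ (n : ℤ), ⊤) from GrTilde.globalOf 𝒜 ℳ (m + m')) =
      (show Γ(GrTilde.tilde 𝒜 ℳ (n : ℤ), ⊤) from GrTilde.globalOf 𝒜 ℳ m) +
        (show Γ(GrTilde.tilde 𝒜 ℳ (n : ℤ), ⊤) from GrTilde.globalOf 𝒜 ℳ m') := by
  refine GrT.pt_ext 𝒜 ℳ fun y => ?_
  refine Eq.trans ?_ (GrT.pt_add (𝒜 := 𝒜) ℳ _ _ y).symm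
  have h1 : (1 : S) ∉ y.1.asHomogeneousIdeal := fun h =>
    y.1.isPrime.ne_top ((Ideal.eq_top_iff_one _).mpr h)
  show GrT.fr 𝒜 y.1 ((m : M) + (m' : M)) 1 h1 = GrT.fr 𝒜 y.1 (m : M) 1 h1 + GrT.fr 𝒜 y.1 (m' : M) 1 h1
  rw [GrT.fr_add]
  exact GrT.fr_congr 𝒜 y.1 _ _ (by simp only [one_smul, mul_one])

omit [DirectSum.Decomposition ℳ] in
theorem globalOf_smul (hcov : ∀ x : ProjectiveSpectrum 𝒜, ∃ g ∈ 𝒜 1, g ∉ x.asHomogeneousIdeal)
    {n : ℕ} (c : A) (m : ℳ n) :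
    (show Γ(GrTilde.tilde 𝒜 ℳ (n : ℤ), ⊤) from GrTilde.globalOf 𝒜 ℳ (c • m)) =
      (show Γ(Proj 𝒜, ⊤) from Coh.toGlobal (Proj 𝒜 ↘ Spec (CommRingCat.of A)) c) •
        (show Γ(GrTilde.tilde 𝒜 ℳ (n : ℤ), ⊤) from GrTilde.globalOf 𝒜 ℳ m) := by
  refine GrT.pt_ext 𝒜 ℳ fun y => ?_
  refine Eq.trans ?_ (GrT.pt_smul (𝒜 := 𝒜) ℳ _ _ y).symm
  obtain ⟨g, hg, hgy⟩ := hcov y.1
  have h1y : (1 : S) ∉ y.1.asHomogeneousIdeal := fun h =>
    y.1.isPrime.ne_top ((Ideal.eq_top_iff_one _).mpr h)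
  have hy : y.1 ∈ Proj.basicOpen 𝒜 g := (ProjectiveSpectrum.mem_basicOpen _ _ y.1).mpr hgy
  have h1 := congrArg (fun s => GrT.pO 𝒜 s (⟨y.1, hy⟩ : Proj.basicOpen 𝒜 g)) (ProjMor.res_toGlobal_base 𝒜 hg c)
  rw [← Groth.Agent.QC.resO_self le_rfl (GrT.deh _ hg (algebraMap A S c)),
    GrT.pO_deh _ hg (SetLike.algebraMap_mem_graded _ c) le_rfl _ (by rw [pow_zero]; exact h1y)] at h1
  have h2 : ((show Twist.O (𝒜 := 𝒜) (op ⊤) from ProjUP.toGlobal (ProjMor.base 𝒜) c).1 y).val =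
      Localization.mk (algebraMap A S c) ⟨1, h1y⟩ :=
    h1.trans (by congr 1; exact Subtype.ext (pow_zero _))
  show GrT.fr 𝒜 y.1 (c • (m : M)) 1 h1y =
    ((show Twist.O (𝒜 := 𝒜) (op ⊤) from ProjUP.toGlobal (ProjMor.base 𝒜) c).1 y).val •
      GrT.fr 𝒜 y.1 (m : M) 1 h1y
  rw [h2, GrT.loc_smul_fr]
  exact GrT.fr_congr 𝒜 y.1 _ _ (by simp only [mul_one, one_smul, algebraMap_smul])

omit [DirectSum.Decomposition ℳ] in
theorem length_h0 (hcov : ∀ x : ProjectiveSpectrum 𝒜, ∃ g ∈ 𝒜 1, g ∉ x.asHomogeneousIdeal) {n : ℕ}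
    (hb : Function.Bijective (fun m : ℳ n => GrTilde.globalOf 𝒜 ℳ m)) :
    Module.length A (Coh.HH (Proj 𝒜) (GrTilde.tilde 𝒜 ℳ (n : ℤ)) 0) = Module.length A (ℳ n) := by
  let T := GrTilde.tilde 𝒜 ℳ (n : ℤ)
  let e : Coh.HH (Proj 𝒜) T 0 ≃+ Γ(T, ⊤) :=
    Sheaf.H.equiv₀ (Coh.toAb T) (isTerminalTop (α := Opens (Proj 𝒜)))
  have he : ∀ (c : A) (z : Coh.HH (Proj 𝒜) T 0), e (c • z) =
      (show Γ(Proj 𝒜, ⊤) from Coh.toGlobal (Proj 𝒜 ↘ Spec (CommRingCat.of A)) c) • e z :=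
    fun c z => equiv₀_smul T c z
  let φ : ℳ n →ₗ[A] Coh.HH (Proj 𝒜) T 0 :=
    { toFun := fun m => e.symm (GrTilde.globalOf 𝒜 ℳ m)
      map_add' := fun m m' => by
        apply e.injective
        rw [map_add, e.apply_symm_apply, e.apply_symm_apply, e.apply_symm_apply]
        exact globalOf_add 𝒜 ℳ m m'
      map_smul' := fun c m => by
        apply e.injective
        rw [RingHom.id_apply, he, e.apply_symm_apply, e.apply_symm_apply]
        exact globalOf_smul 𝒜 ℳ hcov c m }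
  exact (LinearEquiv.ofBijective φ (e.symm.bijective.comp hb)).length_eq.symm

/-- Serre vanishing for the twists of a graded module. -/
theorem exists_vanish [IsNoetherianRing A] [IsNoetherianRing S] [Module.Finite S M]
    (h0 : ∀ s ∈ 𝒜 0, s ∈ Set.range (algebraMap A S)) (t : Finset S) (ht : ∀ f ∈ t, f ∈ 𝒜 1)
    (hcov : ∀ x : ProjectiveSpectrum 𝒜, ∃ f ∈ t, f ∉ x.asHomogeneousIdeal) :
    ∃ N : ℕ, ∀ n : ℕ, N ≤ n → ∀ p : ℕ,
      Subsingleton (Coh.HH (Proj 𝒜) (GrTilde.tilde 𝒜 ℳ (n : ℤ)) (p + 1)) := by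
  haveI := isProper_over 𝒜 h0
  have hcov' : ∀ x : ProjectiveSpectrum 𝒜, ∃ f ∈ 𝒜 1, f ∉ x.asHomogeneousIdeal := fun x => by
    obtain ⟨f, hf, hfx⟩ := hcov x; exact ⟨f, ht f hf, hfx⟩
  have hT : Coh.IsCoh (GrTilde.tilde 𝒜 ℳ 0) :=
    ⟨GrT.isQCoh_tilde 𝒜 ℳ 0, GrT.isFT_tilde 𝒜 ℳ (IsNoetherian.noetherian _) ⟨0, IsNoetherian.noetherian _⟩⟩
  obtain ⟨N, hN⟩ := CohFinite.vanish_ample (Proj 𝒜 ↘ Spec (CommRingCat.of A))
    (GrT.isAmple_twist_one (𝒜 := 𝒜) t ht hcov) hT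
  refine ⟨N, fun n hn p => ?_⟩
  obtain ⟨a⟩ := GrT.nonempty_iso_tensorPow (𝒜 := 𝒜) hcov' n
  obtain ⟨b⟩ := GrT.nonempty_tensor_iso (a := (0 : ℤ)) (b := (n : ℤ)) (c := (n : ℤ)) ℳ hcov' (zero_add _)
  exact CohQC.hh_subsingleton_of_iso (b.symm ≪≫ PicGrp.tensorModIso (Iso.refl _) a).symm (p + 1) (hN n hn p)

end Groth.Agent.HilbArt
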